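import Cfsg.Prelude.Def_Classical
import Cfsg.Agent.S2931.Cover

/-! Explicit covers of the Sylow 2-subgroups of `A₈`, `S₈`, `Sp₄(3)` and `O₆⁻(2)`. -/

set_option autoImplicit false

namespace Cfsg.Agent.S2931

open scoped Matrix

abbrev D4 := DihedralGroup 4
abbrev Q8 := QuaternionGroup 2

/-- `D₈` on four points. -/
def dFun : D4 → Equiv.Perm (ZMod 4)
  | .r i => Equiv.addRight i
  | .sr i => (Equiv.addRight i).trans (Equiv.neg _)

/-- Two copies of four points. -/
def two4 : ZMod 4 ⊕ ZMod 4 ≃ Fin 8 := finSumFinEquiv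

/-- `D₈ ≀ 2` on eight points. -/
def sEight : Swap D4 (Equiv.Perm (Fin 8)) where
  A :=
    { toFun := fun h => two4.permCongr (Equiv.Perm.sumCongr (dFun h) 1)
      map_one' := by decide +kernel
      map_mul' := by decide +kernel }
  B :=
    { toFun := fun h => two4.permCongr (Equiv.Perm.sumCongr 1 (dFun h))
      map_one' := by decide +kernel
      map_mul' := by decide +kernel }
  T := two4.permCongr (Equiv.sumComm (ZMod 4) (ZMod 4))
  hT := by decide +kernel
  hTA := by decide +kernel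
  hAB := by decide +kernel

/-- The numbering of the quaternion group. -/
def qEnum : Q8 ≃ Fin 8 where
  toFun
    | .a i => ⟨i.val, by have := i.val_lt; omega⟩
    | .xa i => ⟨4 + i.val, by have := i.val_lt; omega⟩
  invFun n := if n.val < 4 then .a (n.val : ZMod 4) else .xa ((n.val - 4 : ℕ) : ZMod 4)
  left_inv := by unfold Function.LeftInverse; decide +kernel
  right_inv := by unfold Function.RightInverse Function.LeftInverse; decide +kernel

/-- An involutory automorphism of the quaternion group. -/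
def qSigma : Q8 → Q8
  | .a i => ![.a 0, .xa 0, .a 2, .xa 2] i
  | .xa i => ![.a 1, .xa 3, .a 3, .xa 1] i

theorem qSigma_invol : Function.Involutive qSigma := by
  unfold Function.Involutive
  decide +kernel

/-- `Q₈ ≀ 2` on eight points. -/
def aEight : Swap Q8 (Equiv.Perm (Fin 8)) where
  A :=
    { toFun := fun h => qEnum.permCongr (Equiv.mulLeft h)
      map_one' := by decide +kernel
      map_mul' := by decide +kernel }
  B :=
    { toFun := fun h => qEnum.permCongr (Equiv.mulRight (qSigma h)⁻¹)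
      map_one' := by decide +kernel
      map_mul' := by decide +kernel }
  T := qEnum.permCongr ((Equiv.inv Q8).trans qSigma_invol.toPerm)
  hT := by decide +kernel
  hTA := by decide +kernel
  hAB := by decide +kernel

theorem sEight_ker : ∀ w, sEight.hom w = 1 ↔ w = 1 := by
  rw [forall_W]
  simp only [Swap.hom_mk, SemidirectProduct.ext_iff, SemidirectProduct.one_left, SemidirectProduct.one_right]
  decide +kernel

/-- The kernel of the covers by `Q₈ ≀ 2`. -/
def qKer : Set (W Q8) := {1, ⟨(.a 2, .a 2), 1⟩}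

theorem mem_qKer (w : W Q8) :
    w ∈ qKer ↔ ((w.left = (1, 1) ∨ w.left = (.a 2, .a 2)) ∧ w.right = 1) := by
  simp only [qKer, Set.mem_insert_iff, Set.mem_singleton_iff, SemidirectProduct.ext_iff,
    SemidirectProduct.one_left, SemidirectProduct.one_right, Prod.mk_one_one]
  tauto

theorem ncard_qKer : qKer.ncard = 2 := by
  rw [qKer, Set.ncard_pair]
  intro h
  exact absurd (congrArg SemidirectProduct.left h) (by decide)

theorem aEight_ker : ∀ w, aEight.hom w = 1 ↔ w ∈ qKer := by
  rw [forall_W]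
  simp only [Swap.hom_mk, mem_qKer]
  decide +kernel

theorem aEight_even : ∀ w, aEight.hom w ∈ alternatingGroup (Fin 8) := by
  have hA : ∀ h, Equiv.Perm.sign (aEight.A h) = 1 := by decide +kernel
  have hB : ∀ h, Equiv.Perm.sign (aEight.B h) = 1 := by decide +kernel
  have hT : Equiv.Perm.sign aEight.T = 1 := by decide +kernel
  rw [forall_W]
  intro a b e
  rw [Equiv.Perm.mem_alternatingGroup, Swap.hom_mk]
  unfold Swap.val
  split <;> simp [hA, hB, hT]

/-! ### Symplectic matrices over three elements -/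

abbrev M4 := Matrix (Fin 2 ⊕ Fin 2) (Fin 2 ⊕ Fin 2) (ZMod 3)

/-- Which hyperbolic pair an index belongs to. -/
def pairOf : Fin 2 ⊕ Fin 2 → Fin 2
  | .inl k => k
  | .inr k => k

/-- Position inside the pair. -/
def posOf : Fin 2 ⊕ Fin 2 → Fin 2
  | .inl _ => 0
  | .inr _ => 1

/-- `Q₈` in `SL₂(3)`. -/
def qSL : Q8 → Matrix (Fin 2) (Fin 2) (ZMod 3)
  | .a i => !![0, -1; 1, 0] ^ i.val
  | .xa i => !![1, 1; 1, -1] * !![0, -1; 1, 0] ^ i.val

/-- Block diagonal matrix from two blocks. -/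
def blocks (f : Fin 2 → Matrix (Fin 2) (Fin 2) (ZMod 3)) : M4 :=
  Matrix.of fun i j => if pairOf i = pairOf j then f (pairOf i) (posOf i) (posOf j) else 0

/-- `Q₈ ≀ 2` in symplectic matrices. -/
def spFour : Swap Q8 M4 where
  A :=
    { toFun := fun h => blocks ![qSL h, 1]
      map_one' := by decide +kernel
      map_mul' := by decide +kernel }
  B :=
    { toFun := fun h => blocks ![1, qSL h]
      map_one' := by decide +kernel
      map_mul' := by decide +kernel }
  T := Matrix.of fun i j => if posOf i = posOf j ∧ pairOf i ≠ pairOf j then 1 else 0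
  hT := by decide +kernel
  hTA := by decide +kernel
  hAB := by decide +kernel

theorem spFour_ker : ∀ w, w ∈ qKer ↔ (spFour.hom w = 1 ∨ spFour.hom w = -1) := by
  rw [forall_W]
  simp only [Swap.hom_mk, mem_qKer]
  decide +kernel

theorem spFour_mem : ∀ w, spFour.hom w ∈ Matrix.symplecticGroup (Fin 2) (ZMod 3) := by
  have hA : ∀ h, spFour.A h * Matrix.J (Fin 2) (ZMod 3) * (spFour.A h).transpose = Matrix.J (Fin 2) (ZMod 3) := by
    decide +kernel
  have hB : ∀ h, spFour.B h * Matrix.J (Fin 2) (ZMod 3) * (spFour.B h).transpose = Matrix.J (Fin 2) (ZMod 3) := by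
    decide +kernel
  have hT : spFour.T * Matrix.J (Fin 2) (ZMod 3) * spFour.T.transpose = Matrix.J (Fin 2) (ZMod 3) := by
    decide +kernel
  rw [forall_W]
  intro a b e
  rw [Swap.hom_mk]
  unfold Swap.val
  refine mul_mem (mul_mem (SymplecticGroup.mem_iff.2 (hA a)) (SymplecticGroup.mem_iff.2 (hB b))) ?_
  split
  · exact one_mem _
  · exact SymplecticGroup.mem_iff.2 hT

/-! ### The orthogonal group of minus type -/

abbrev I6 := (Fin 2 ⊕ Fin 2) ⊕ Fin 2
abbrev M6 := Matrix I6 I6 (ZMod 2)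

/-- Coordinates. -/
def enc : I6 → Fin 6
  | .inl (.inl k) => ⟨k.val, by omega⟩
  | .inl (.inr k) => ⟨2 + k.val, by omega⟩
  | .inr k => ⟨4 + k.val, by omega⟩

/-- A matrix from a table. -/
def of6 (m : Matrix (Fin 6) (Fin 6) (ZMod 2)) : M6 := Matrix.of fun i j => m (enc i) (enc j)

/-- The swap. -/
def tM : M6 :=
  of6 !![1,0,0,0,0,0; 0,0,0,1,0,0; 0,0,1,0,0,0; 0,1,0,0,0,0; 0,0,0,0,0,1; 0,0,0,0,1,0]

/-- The rotation. -/
def rM : M6 :=
  of6 !![1,1,0,1,0,1; 0,1,0,1,0,1; 0,0,1,0,0,0; 0,0,1,1,0,0; 0,0,0,1,1,1; 0,0,0,0,0,1]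

/-- The reflection. -/
def sM : M6 :=
  of6 !![1,0,0,0,0,0; 0,1,0,1,0,1; 0,0,1,0,0,0; 0,0,0,1,0,0; 0,0,0,1,1,1; 0,0,0,0,0,1]

/-- `D₈` in the orthogonal group. -/
def dMat : D4 → M6
  | .r i => rM ^ i.val
  | .sr i => sM * rM ^ i.val

/-- `D₈ ≀ 2` in the orthogonal group. -/
def oSix : Swap D4 M6 where
  A :=
    { toFun := dMat
      map_one' := by decide +kernel
      map_mul' := by decide +kernel }
  B :=
    { toFun := fun h => tM * dMat h * tM
      map_one' := by decide +kernel
      map_mul' := by decide +kernel }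
  T := tM
  hT := by decide +kernel
  hTA := by decide +kernel
  hAB := by decide +kernel

theorem oSix_ker : ∀ w, oSix.hom w = 1 ↔ w = 1 := by
  rw [forall_W]
  simp only [Swap.hom_mk, SemidirectProduct.ext_iff, SemidirectProduct.one_left, SemidirectProduct.one_right]
  decide +kernel

theorem oSix_iso : ∀ w v, Cfsg.quadFormMinus 2 (ZMod 2) 1 1 (oSix.hom w *ᵥ v) =
    Cfsg.quadFormMinus 2 (ZMod 2) 1 1 v := by
  have hA : ∀ h v, Cfsg.quadFormMinus 2 (ZMod 2) 1 1 (oSix.A h *ᵥ v) = Cfsg.quadFormMinus 2 (ZMod 2) 1 1 v := by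
    decide +kernel
  have hB : ∀ h v, Cfsg.quadFormMinus 2 (ZMod 2) 1 1 (oSix.B h *ᵥ v) = Cfsg.quadFormMinus 2 (ZMod 2) 1 1 v := by
    decide +kernel
  have hT : ∀ v, Cfsg.quadFormMinus 2 (ZMod 2) 1 1 (oSix.T *ᵥ v) = Cfsg.quadFormMinus 2 (ZMod 2) 1 1 v := by
    decide +kernel
  rw [forall_W]
  intro a b e v
  rw [Swap.hom_mk]
  unfold Swap.val
  rw [← Matrix.mulVec_mulVec, ← Matrix.mulVec_mulVec, hA, hB]
  split
  · rw [Matrix.one_mulVec]
  · exact hT v

end Cfsg.Agent.S2931
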